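import Cfsg.Agent.H847.Bs.Defs2

/-!
# S5733, BS25: glueing, invariant subspaces of small dimension, counting conjugates

* `glue_left`, `glue_right`, `glue_mem_iso`, `glue_injective`;
* `LB K y` : every nonzero `y`-invariant subspace has dimension greater than `K`;
* `le_left` : an invariant subspace of `glue x y` of dimension at most `K` lies in `D`, if `LB K y`;
* `card_conj` : the number of conjugates of a set `E` with the (TI) property;
* `card_cset` : `|Iso V| |X| ≤ |Iso U| |cset Iso(V) (Iso D) X|` if all elements of `X` satisfy `LB K` and `dim D ≤ K`.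
-/

set_option autoImplicit false

namespace Cfsg.Agent.H181.Bs

open Cfsg.Agent.H847.Bs Module

universe u v

variable {F : Type u} {V : Type v} [Field F] [AddCommGroup V] [Module F V]

section Glue

variable {D U : Submodule F V}

theorem glue_left (h : IsCompl D U) (x : D ≃ₗ[F] D) (y : U ≃ₗ[F] U) (d : D) :
    glue h x y (d : V) = (x d : V) := by
  simp [glue]

theorem glue_right (h : IsCompl D U) (x : D ≃ₗ[F] D) (y : U ≃ₗ[F] U) (u : U) :
    glue h x y (u : V) = (y u : V) := by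
  simp [glue]

theorem glue_add (h : IsCompl D U) (x : D ≃ₗ[F] D) (y : U ≃ₗ[F] U) (d : D) (u : U) :
    glue h x y ((d : V) + (u : V)) = (x d : V) + (y u : V) := by
  rw [map_add, glue_left, glue_right]

theorem exists_add (h : IsCompl D U) (v : V) : ∃ (d : D) (u : U), (d : V) + (u : V) = v := by
  have h1 : v ∈ D ⊔ U := by rw [h.sup_eq_top]; trivial
  obtain ⟨d, hd, u, hu, e⟩ := Submodule.mem_sup.mp h1
  exact ⟨⟨d, hd⟩, ⟨u, hu⟩, e⟩

theorem glue_inj (h : IsCompl D U) {x x' : D ≃ₗ[F] D} {y y' : U ≃ₗ[F] U} (e : glue h x y = glue h x' y') :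
    x = x' ∧ y = y' := by
  constructor
  · ext d
    have h1 := congrArg (fun f => f (d : V)) e
    simp only [glue_left] at h1
    exact h1
  · ext d
    have h1 := congrArg (fun f => f (d : V)) e
    simp only [glue_right] at h1
    exact h1

theorem inv_glue_left (h : IsCompl D U) (x : D ≃ₗ[F] D) (y : U ≃ₗ[F] U) : Inv (glue h x y) D := by
  intro v hv
  have h1 := glue_left h x y ⟨v, hv⟩
  rw [show v = ((⟨v, hv⟩ : D) : V) from rfl, h1]
  exact (x _).2

theorem inv_glue_right (h : IsCompl D U) (x : D ≃ₗ[F] D) (y : U ≃ₗ[F] U) : Inv (glue h x y) U := by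
  intro v hv
  have h1 := glue_right h x y ⟨v, hv⟩
  rw [show v = ((⟨v, hv⟩ : U) : V) from rfl, h1]
  exact (y _).2

/-- every nonzero invariant subspace of `y` has dimension greater than `K` -/
def LB {U : Type*} [AddCommGroup U] [Module F U] (K : ℕ) (y : U ≃ₗ[F] U) : Prop :=
  ∀ Z : Submodule F U, Inv y Z → Z ≠ ⊥ → K < finrank F Z

theorem proj_glue (h : IsCompl D U) (x : D ≃ₗ[F] D) (y : U ≃ₗ[F] U) (v : V) :
    Submodule.projectionOnto U D h.symm (glue h x y v) = y (Submodule.projectionOnto U D h.symm v) := by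
  obtain ⟨d, u, rfl⟩ := exists_add h v
  rw [glue_add, map_add, map_add, Submodule.projectionOnto_apply_left, Submodule.projectionOnto_apply_left,
    Submodule.projectionOnto_apply_right, Submodule.projectionOnto_apply_right, zero_add, zero_add]

theorem le_left [Module.Finite F V] (h : IsCompl D U) {x : D ≃ₗ[F] D} {y : U ≃ₗ[F] U} {K : ℕ} (hy : LB K y)
    {Y : Submodule F V} (hY : Inv (glue h x y) Y) (hK : finrank F Y ≤ K) : Y ≤ D := by
  have h1 : Inv y (Y.map (Submodule.projectionOnto U D h.symm)) := by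
    rintro _ ⟨v, hv, rfl⟩
    rw [← proj_glue h x y v]
    exact Submodule.mem_map_of_mem (hY v hv)
  have h2 : Y.map (Submodule.projectionOnto U D h.symm) = ⊥ := by
    by_contra hne
    have h3 := hy _ h1 hne
    have h4 := Submodule.finrank_map_le (Submodule.projectionOnto U D h.symm) Y
    omega
  intro v hv
  have h5 : Submodule.projectionOnto U D h.symm v ∈ Y.map (Submodule.projectionOnto U D h.symm) :=
    Submodule.mem_map_of_mem hv
  rw [h2, Submodule.mem_bot] at h5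
  exact (Submodule.projectionOnto_apply_eq_zero_iff h.symm).mp h5

end Glue

/-- invariant subspaces of a conjugate -/
theorem inv_conj {g z : V ≃ₗ[F] V} {Y : Submodule F V} (h : Inv (g * z * g⁻¹) Y) :
    Inv z (Y.map ((g⁻¹ : V ≃ₗ[F] V) : V →ₗ[F] V)) := by
  rintro _ ⟨v, hv, rfl⟩
  refine ⟨(g * z * g⁻¹) v, h v hv, ?_⟩
  show g⁻¹ (g (z (g⁻¹ v))) = z (g⁻¹ v)
  exact g.symm_apply_apply _

theorem inv_conj' {g z : V ≃ₗ[F] V} {Y : Submodule F V} (h : Inv z Y) :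
    Inv (g * z * g⁻¹) (Y.map (g : V →ₗ[F] V)) := by
  rintro _ ⟨v, hv, rfl⟩
  refine ⟨z v, h v hv, ?_⟩
  show g (z v) = g (z (g⁻¹ (g v)))
  congr 2
  exact (g.symm_apply_apply v).symm

theorem finrank_map_equiv (g : V ≃ₗ[F] V) (Y : Submodule F V) :
    finrank F (Y.map (g : V →ₗ[F] V)) = finrank F Y :=
  LinearEquiv.finrank_map_eq g Y

/-- invariant subspaces are mapped onto themselves -/
theorem map_eq_of_inv [Module.Finite F V] {g : V ≃ₗ[F] V} {Y : Submodule F V} (h : Inv g Y) :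
    Y.map (g : V →ₗ[F] V) = Y := by
  refine Submodule.eq_of_le_of_finrank_eq ?_ (finrank_map_equiv g Y)
  rintro _ ⟨v, hv, rfl⟩
  exact h v hv

theorem inv_symm [Module.Finite F V] {g : V ≃ₗ[F] V} {Y : Submodule F V} (h : Inv g Y) : Inv g⁻¹ Y := by
  intro v hv
  rw [← map_eq_of_inv h] at hv
  obtain ⟨w, hw, rfl⟩ := hv
  have : g⁻¹ ((g : V →ₗ[F] V) w) = w := g.symm_apply_apply w
  rw [this]
  exact hw

section Count

/-- the number of conjugates of a set with the (TI) property -/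
theorem card_conj {G : Type*} [Group G] [Finite G] (Γ M : Subgroup G) (E : Set G)
    (hTI : ∀ g ∈ Γ, ∀ x ∈ E, g * x * g⁻¹ ∈ E → g ∈ M) :
    Nat.card Γ * Nat.card E ≤ Nat.card {z : G // ∃ g ∈ Γ, ∃ x ∈ E, z = g * x * g⁻¹} * Nat.card M := by
  classical
  rw [← Nat.card_prod, ← Nat.card_prod]
  let Z := {z : G // ∃ g ∈ Γ, ∃ x ∈ E, z = g * x * g⁻¹}
  have hz : ∀ z : Z, ∃ p : G × G, p.1 ∈ Γ ∧ p.2 ∈ E ∧ z.1 = p.1 * p.2 * p.1⁻¹ := by
    rintro ⟨z, g, hg, x, hx, e⟩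
    exact ⟨(g, x), hg, hx, e⟩
  choose r hr1 hr2 hr3 using hz
  let fz : Γ × E → Z := fun p => ⟨p.1.1 * p.2.1 * p.1.1⁻¹, p.1.1, p.1.2, p.2.1, p.2.2, rfl⟩
  have hm : ∀ p : Γ × E, (r (fz p)).1⁻¹ * p.1.1 ∈ M := by
    intro p
    refine hTI _ (Γ.mul_mem (Γ.inv_mem (hr1 _)) p.1.2) p.2.1 p.2.2 ?_
    have h1 : p.1.1 * p.2.1 * p.1.1⁻¹ = (r (fz p)).1 * (r (fz p)).2 * (r (fz p)).1⁻¹ := hr3 (fz p)
    have h2 : (r (fz p)).1⁻¹ * p.1.1 * p.2.1 * ((r (fz p)).1⁻¹ * p.1.1)⁻¹ = (r (fz p)).2 := by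
      rw [mul_inv_rev, inv_inv]
      calc (r (fz p)).1⁻¹ * p.1.1 * p.2.1 * (p.1.1⁻¹ * (r (fz p)).1)
          = (r (fz p)).1⁻¹ * (p.1.1 * p.2.1 * p.1.1⁻¹) * (r (fz p)).1 := by group
        _ = (r (fz p)).2 := by rw [h1]; group
    rw [h2]
    exact hr2 _
  refine Nat.card_le_card_of_injective (fun p : Γ × E => ((fz p, ⟨_, hm p⟩) : Z × M)) ?_
  intro p p' h
  have h1 : fz p = fz p' := congrArg Prod.fst h
  have h2 : (r (fz p)).1⁻¹ * p.1.1 = (r (fz p')).1⁻¹ * p'.1.1 := congrArg (fun q => (q.2 : G)) h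
  rw [h1] at h2
  have h3 : p.1.1 = p'.1.1 := mul_left_cancel h2
  have h4 : p.1.1 * p.2.1 * p.1.1⁻¹ = p'.1.1 * p'.2.1 * p'.1.1⁻¹ := congrArg Subtype.val h1
  rw [h3] at h4
  have h5 : p.2.1 = p'.2.1 := mul_left_cancel (mul_right_cancel h4)
  exact Prod.ext (Subtype.ext h3) (Subtype.ext h5)

end Count

instance finite_gl [Finite V] : Finite (V ≃ₗ[F] V) :=
  Finite.of_injective (fun g : V ≃ₗ[F] V => (g : V → V)) DFunLike.coe_injective

section Form

variable (Φ : Frm F V) {D U : Submodule F V}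

theorem glue_mem_iso (h : Φ.Dec D U) {x : D ≃ₗ[F] D} {y : U ≃ₗ[F] U} (hx : x ∈ (Φ.on D).Iso)
    (hy : y ∈ (Φ.on U).Iso) : glue h.compl x y ∈ Φ.Iso := by
  have hor : ∀ (d : D) (u : U), Φ.B (d : V) (u : V) = 0 := fun d u => h.orth _ d.2 _ u.2
  have hor' : ∀ (d : D) (u : U), Φ.B (u : V) (d : V) = 0 := fun d u => Φ.refl _ _ (hor d u)
  refine ⟨?_, ?_⟩
  · intro v w
    obtain ⟨d, u, rfl⟩ := exists_add h.compl v
    obtain ⟨d', u', rfl⟩ := exists_add h.compl w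
    rw [glue_add, glue_add]
    simp only [Φ.add_left, Φ.add_right, hor, hor', zero_add, add_zero]
    rw [show Φ.B (x d : V) (x d' : V) = Φ.B (d : V) (d' : V) from hx.1 d d',
      show Φ.B (y u : V) (y u' : V) = Φ.B (u : V) (u' : V) from hy.1 u u']
  · intro v
    obtain ⟨d, u, rfl⟩ := exists_add h.compl v
    rw [glue_add, Φ.q_add _ _ (hor _ _), Φ.q_add _ _ (hor _ _)]
    rw [show Φ.q (x d : V) = Φ.q (d : V) from hx.2 d, show Φ.q (y u : V) = Φ.q (u : V) from hy.2 u]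

/-- the elements of `M` are glued from their restrictions -/
theorem exists_glue [Module.Finite F V] (h : Φ.Dec D U) {g : V ≃ₗ[F] V} (hg : g ∈ Φ.Iso) (hD : Inv g D) (hU : Inv g U) :
    ∃ x ∈ (Φ.on D).Iso, ∃ y ∈ (Φ.on U).Iso, g = glue h.compl x y := by
  have hinj : ∀ (W : Submodule F V) (hW : Inv g W), Function.Injective ((g : V →ₗ[F] V).restrict hW) := by
    intro W hW a b hab
    apply Subtype.ext
    exact g.injective (congrArg Subtype.val hab)
  let x : D ≃ₗ[F] D := LinearEquiv.ofInjectiveEndo ((g : V →ₗ[F] V).restrict hD) (hinj D hD)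
  let y : U ≃ₗ[F] U := LinearEquiv.ofInjectiveEndo ((g : V →ₗ[F] V).restrict hU) (hinj U hU)
  have hx : ∀ d : D, ((x d : D) : V) = g d := fun d => rfl
  have hy : ∀ d : U, ((y d : U) : V) = g d := fun d => rfl
  refine ⟨x, ⟨fun a b => ?_, fun a => ?_⟩, y, ⟨fun a b => ?_, fun a => ?_⟩, ?_⟩
  · show Φ.B (x a : V) (x b : V) = Φ.B a b
    rw [hx, hx, hg.1]
  · show Φ.q (x a : V) = Φ.q a
    rw [hx, hg.2]
  · show Φ.B (y a : V) (y b : V) = Φ.B a b
    rw [hy, hy, hg.1]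
  · show Φ.q (y a : V) = Φ.q a
    rw [hy, hg.2]
  · ext v
    obtain ⟨d, u, rfl⟩ := exists_add h.compl v
    rw [glue_add, map_add, hx, hy]

/-- `U` is the orthogonal complement of `D` -/
theorem mem_right_iff (hnd : Φ.Nd) (h : Φ.Dec D U) (v : V) : v ∈ U ↔ ∀ d ∈ D, Φ.B d v = 0 := by
  constructor
  · intro hv d hd
    exact h.orth d hd v hv
  · intro hv
    obtain ⟨d, u, rfl⟩ := exists_add h.compl v
    have h1 : ∀ d' ∈ D, Φ.B d' (d : V) = 0 := by
      intro d' hd'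
      have h2 := hv d' hd'
      rw [Φ.add_right, h.orth d' hd' _ u.2, add_zero] at h2
      exact h2
    have h3 : (d : V) = 0 := by
      refine hnd _ fun w => ?_
      obtain ⟨d', u', rfl⟩ := exists_add h.compl w
      rw [Φ.add_right, Φ.refl _ _ (h1 _ d'.2), h.orth _ d.2 _ u'.2, add_zero]
    rw [h3, zero_add]
    exact u.2

theorem inv_right (hnd : Φ.Nd) [Module.Finite F V] (h : Φ.Dec D U) {g : V ≃ₗ[F] V} (hg : g ∈ Φ.Iso) (hD : Inv g D) :
    Inv g U := by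
  intro v hv
  rw [mem_right_iff Φ hnd h] at hv ⊢
  intro d hd
  have h1 : d = g (g⁻¹ d) := (g.apply_symm_apply d).symm
  rw [h1, hg.1]
  exact hv _ (inv_symm hD d hd)

variable [Finite V] [Module.Finite F V]

/-- counting the conjugates of `glue x y`, `x ∈ Iso D`, `y ∈ X` -/
theorem card_cset (hnd : Φ.Nd) (h : Φ.Dec D U) {K : ℕ} (hK : finrank F D ≤ K) {X : Set (U ≃ₗ[F] U)}
    (hX : ∀ y ∈ X, y ∈ (Φ.on U).Iso ∧ LB K y) :
    Nat.card Φ.Iso * Nat.card X ≤
      Nat.card (cset Φ.Iso h.compl ((Φ.on D).Iso : Set (D ≃ₗ[F] D)) X) * Nat.card (Φ.on U).Iso := by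
  classical
  let E : Set (V ≃ₗ[F] V) := {z | ∃ x ∈ (Φ.on D).Iso, ∃ y ∈ X, z = glue h.compl x y}
  let M : Subgroup (V ≃ₗ[F] V) :=
    { carrier := {g | g ∈ Φ.Iso ∧ Inv g D}
      mul_mem' := by
        rintro a b ⟨ha1, ha2⟩ ⟨hb1, hb2⟩
        exact ⟨Φ.Iso.mul_mem ha1 hb1, fun v hv => ha2 _ (hb2 v hv)⟩
      one_mem' := ⟨Φ.Iso.one_mem, fun v hv => hv⟩
      inv_mem' := by
        rintro a ⟨ha1, ha2⟩
        exact ⟨Φ.Iso.inv_mem ha1, inv_symm ha2⟩ }
  have hTI : ∀ g ∈ Φ.Iso, ∀ x ∈ E, g * x * g⁻¹ ∈ E → g ∈ M := by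
    rintro g hg z ⟨x, hx, y, hy, rfl⟩ ⟨x', hx', y', hy', e⟩
    refine ⟨hg, ?_⟩
    have h1 : Inv (g * glue h.compl x y * g⁻¹) (D.map (g : V →ₗ[F] V)) := inv_conj' (inv_glue_left h.compl x y)
    rw [e] at h1
    have h2 := le_left h.compl (hX y' hy').2 h1 (by rw [finrank_map_equiv]; exact hK)
    intro v hv
    exact h2 (Submodule.mem_map_of_mem hv)
  have h1 := card_conj Φ.Iso M E hTI
  -- the size of `E`
  have h2 : Nat.card (Φ.on D).Iso * Nat.card X ≤ Nat.card E := by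
    rw [← Nat.card_prod]
    refine Nat.card_le_card_of_injective
      (fun p : (Φ.on D).Iso × X => (⟨glue h.compl p.1.1 p.2.1, p.1.1, p.1.2, p.2.1, p.2.2, rfl⟩ : E)) ?_
    intro p p' e
    obtain ⟨e1, e2⟩ := glue_inj h.compl (congrArg Subtype.val e)
    exact Prod.ext (Subtype.ext e1) (Subtype.ext e2)
  -- the size of `M`
  have h3 : Nat.card M ≤ Nat.card (Φ.on D).Iso * Nat.card (Φ.on U).Iso := by
    rw [← Nat.card_prod]
    have hex : ∀ g : M, ∃ p : (Φ.on D).Iso × (Φ.on U).Iso, g.1 = glue h.compl p.1.1 p.2.1 := by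
      rintro ⟨g, hg1, hg2⟩
      obtain ⟨x, hx, y, hy, e⟩ := exists_glue Φ h hg1 hg2 (inv_right Φ hnd h hg1 hg2)
      exact ⟨(⟨x, hx⟩, ⟨y, hy⟩), e⟩
    choose f hf using hex
    refine Nat.card_le_card_of_injective f ?_
    intro g g' e
    apply Subtype.ext
    rw [hf g, hf g', e]
  have h4 : Nat.card {z : V ≃ₗ[F] V // ∃ g ∈ Φ.Iso, ∃ x ∈ E, z = g * x * g⁻¹} =
      Nat.card (cset Φ.Iso h.compl ((Φ.on D).Iso : Set (D ≃ₗ[F] D)) X) := by
    refine Nat.card_congr (Equiv.setCongr ?_)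
    ext z
    constructor
    · rintro ⟨g, hg, _, ⟨x, hx, y, hy, rfl⟩, e⟩
      exact ⟨g, hg, x, hx, y, hy, e⟩
    · rintro ⟨g, hg, x, hx, y, hy, e⟩
      exact ⟨g, hg, _, ⟨x, hx, y, hy, rfl⟩, e⟩
  rw [h4] at h1
  have h5 : 0 < Nat.card (Φ.on D).Iso := Nat.card_pos
  have h6 : Nat.card (Φ.on D).Iso * (Nat.card Φ.Iso * Nat.card X) ≤
      Nat.card (Φ.on D).Iso *
        (Nat.card (cset Φ.Iso h.compl ((Φ.on D).Iso : Set (D ≃ₗ[F] D)) X) * Nat.card (Φ.on U).Iso) := by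
    calc Nat.card (Φ.on D).Iso * (Nat.card Φ.Iso * Nat.card X)
        = Nat.card Φ.Iso * (Nat.card (Φ.on D).Iso * Nat.card X) := by ring
      _ ≤ Nat.card Φ.Iso * Nat.card E := Nat.mul_le_mul_left _ h2
      _ ≤ _ := h1
      _ ≤ Nat.card (cset Φ.Iso h.compl ((Φ.on D).Iso : Set (D ≃ₗ[F] D)) X) *
          (Nat.card (Φ.on D).Iso * Nat.card (Φ.on U).Iso) := Nat.mul_le_mul_left _ h3
      _ = _ := by ring
  exact Nat.le_of_mul_le_mul_left h6 h5

end Form

end Cfsg.Agent.H181.Bs
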