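import Cfsg.Agent.H181.Bs.Glue

/-!
# S5733, BS25: symplectic spaces

* `bil`, `perp`, `dec_perp`, `ndOn_right`, `isSp_on`;
* `exists_dec` : nondegenerate subspaces of every even dimension;
* `even_finrank`;
* `two_finrank_le_of_ti` : totally isotropic subspaces of nondegenerate spaces;
* `sum_le` : the main counting inequality.
-/

set_option autoImplicit false

namespace Cfsg.Agent.H181.Bs

open Cfsg.Agent.H847.Bs Module

universe u v

variable {F : Type u} {V : Type v} [Field F] [AddCommGroup V] [Module F V] {Φ : Frm F V}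

/-- the bilinear form -/
def bil (hs : ∀ a, Φ.s a = a) : LinearMap.BilinForm F V :=
  LinearMap.mk₂ F Φ.B Φ.add_left (fun a x y => by rw [Φ.smul_left]; rfl) Φ.add_right
    (fun a x y => by rw [Φ.smul_right, hs]; rfl)

theorem bil_apply (hs : ∀ a, Φ.s a = a) (x y : V) : bil hs x y = Φ.B x y := rfl

theorem bil_refl (hs : ∀ a, Φ.s a = a) : (bil hs).IsRefl := fun x y h => Φ.refl x y h

theorem bil_nd (hs : ∀ a, Φ.s a = a) (hnd : Φ.Nd) : (bil hs).Nondegenerate :=
  (LinearMap.IsRefl.nondegenerate_iff_separatingLeft (bil_refl hs)).mpr hnd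

/-- the orthogonal complement -/
def perp (hs : ∀ a, Φ.s a = a) (Y : Submodule F V) : Submodule F V := (bil hs).orthogonal Y

theorem mem_perp (hs : ∀ a, Φ.s a = a) {Y : Submodule F V} {v : V} :
    v ∈ perp hs Y ↔ ∀ y ∈ Y, Φ.B y v = 0 := by
  rw [perp, LinearMap.BilinForm.mem_orthogonal_iff]
  rfl

theorem dec_perp (hs : ∀ a, Φ.s a = a) [Module.Finite F V] {Y : Submodule F V} (hY : Φ.NdOn Y) :
    Φ.Dec Y (perp hs Y) where
  compl := by
    refine ((bil hs).isCompl_orthogonal_iff_disjoint (bil_refl hs)).mpr ?_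
    rw [disjoint_iff, eq_bot_iff]
    rintro x ⟨hx1, hx2⟩
    rw [Submodule.mem_bot]
    refine hY x hx1 fun y hy => Φ.refl _ _ ?_
    exact (mem_perp hs).mp hx2 y hy
  orth := fun x hx y hy => (mem_perp hs).mp hy x hx

theorem ndOn_right (hnd : Φ.Nd) {D U : Submodule F V} (h : Φ.Dec D U) : Φ.NdOn U := by
  intro x hx hxy
  refine hnd x fun w => ?_
  obtain ⟨d, u, rfl⟩ := exists_add h.compl w
  rw [Φ.add_right, Φ.refl _ _ (h.orth _ d.2 _ hx), hxy _ u.2, add_zero]

theorem ndOn_left (hnd : Φ.Nd) {D U : Submodule F V} (h : Φ.Dec D U) : Φ.NdOn D := by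
  intro x hx hxy
  refine hnd x fun w => ?_
  obtain ⟨d, u, rfl⟩ := exists_add h.compl w
  rw [Φ.add_right, h.orth _ hx _ u.2, hxy _ d.2, add_zero]

theorem isSp_on (hΦ : IsSp Φ) {D : Submodule F V} (hD : Φ.NdOn D) : IsSp (Φ.on D) where
  nd := by
    intro x hx
    apply Subtype.ext
    exact hD x.1 x.2 fun y hy => hx ⟨y, hy⟩
  s := hΦ.s
  q := fun x => hΦ.q x.1
  alt := fun x => hΦ.alt x.1

theorem alt_swap (hΦ : IsSp Φ) (x y : V) : Φ.B y x = - Φ.B x y := by
  have h := hΦ.alt (x + y)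
  rw [Φ.add_left, Φ.add_right, Φ.add_right, hΦ.alt, hΦ.alt, zero_add, add_zero] at h
  exact eq_neg_of_add_eq_zero_right h

theorem exists_dec (hΦ : IsSp Φ) [Module.Finite F V] (s : ℕ) (hs : 2 * s ≤ finrank F V) :
    ∃ W U : Submodule F V, Φ.Dec W U ∧ finrank F W = 2 * s := by
  induction s with
  | zero =>
    refine ⟨⊥, ⊤, ⟨isCompl_bot_top, ?_⟩, by simp⟩
    intro x hx y _
    rw [Submodule.mem_bot] at hx
    rw [hx]
    have := Φ.smul_left 0 0 y
    rwa [zero_smul, zero_mul] at this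
  | succ s ih =>
    obtain ⟨W, U, hd, hW⟩ := ih (by omega)
    have hWnd := ndOn_left hΦ.nd hd
    have hUnd := ndOn_right hΦ.nd hd
    have hU : finrank F W + finrank F U = finrank F V := Submodule.finrank_add_eq_of_isCompl hd.compl
    have hU0 : U ≠ ⊥ := by
      rintro rfl
      rw [finrank_bot] at hU
      omega
    obtain ⟨x, hx, hx0⟩ := Submodule.exists_mem_ne_zero_of_ne_bot hU0
    obtain ⟨y, hy, hxy⟩ : ∃ y ∈ U, Φ.B x y ≠ 0 := by
      by_contra hno
      push Not at hno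
      exact hx0 (hUnd x hx hno)
    set P : Submodule F V := Submodule.span F {x, y} with hP
    have hPU : P ≤ U := by
      rw [hP, Submodule.span_le]
      rintro z (rfl | hz)
      · exact hx
      · rw [Set.mem_singleton_iff] at hz
        rw [hz]
        exact hy
    have hxP : x ∈ P := Submodule.subset_span (by simp)
    have hyP : y ∈ P := Submodule.subset_span (by simp)
    have hkey : ∀ a b : F, Φ.B (a • x + b • y) x = b * Φ.B y x ∧ Φ.B (a • x + b • y) y = a * Φ.B x y := by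
      intro a b
      refine ⟨?_, ?_⟩
      · rw [Φ.add_left, Φ.smul_left, Φ.smul_left, hΦ.alt, mul_zero, zero_add]
      · rw [Φ.add_left, Φ.smul_left, Φ.smul_left, hΦ.alt, mul_zero, add_zero]
    have hyx : Φ.B y x ≠ 0 := by
      rw [alt_swap hΦ]
      exact neg_ne_zero.mpr hxy
    have hPnd : Φ.NdOn P := by
      intro z hz hz2
      obtain ⟨a, b, rfl⟩ := Submodule.mem_span_pair.mp hz
      have h1 := (hkey a b).1
      have h2 := (hkey a b).2
      rw [hz2 x hxP] at h1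
      rw [hz2 y hyP] at h2
      have hb : b = 0 := (mul_eq_zero.mp h1.symm).resolve_right hyx
      have ha : a = 0 := (mul_eq_zero.mp h2.symm).resolve_right hxy
      rw [ha, hb, zero_smul, zero_smul, add_zero]
    have hli : LinearIndependent F ![x, y] := by
      rw [LinearIndependent.pair_iff]
      intro a b hab
      have h0 : ∀ w, Φ.B (0 : V) w = 0 := by
        intro w
        have := Φ.smul_left 0 0 w
        rwa [zero_smul, zero_mul] at this
      have h1 := (hkey a b).1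
      have h2 := (hkey a b).2
      rw [hab, h0] at h1 h2
      exact ⟨(mul_eq_zero.mp h2.symm).resolve_right hxy, (mul_eq_zero.mp h1.symm).resolve_right hyx⟩
    have hPr : finrank F P = 2 := by
      have h1 := finrank_span_eq_card hli
      rw [Fintype.card_fin] at h1
      have h2 : Set.range ![x, y] = {x, y} := by simp [Set.pair_comm]
      rw [h2] at h1
      exact h1
    have hdisj : W ⊓ P = ⊥ := by
      rw [eq_bot_iff]
      calc W ⊓ P ≤ W ⊓ U := inf_le_inf_left _ hPU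
        _ = ⊥ := hd.compl.inf_eq_bot
    have hsum := Submodule.finrank_sup_add_finrank_inf_eq W P
    rw [hdisj, finrank_bot, hW, hPr] at hsum
    have hnd : Φ.NdOn (W ⊔ P) := by
      intro z hz hz2
      obtain ⟨w, hw, p, hp, rfl⟩ := Submodule.mem_sup.mp hz
      have h1 : w = 0 := by
        refine hWnd w hw fun w' hw' => ?_
        have h2 := hz2 w' (Submodule.mem_sup_left hw')
        rw [Φ.add_left, Φ.refl _ _ (hd.orth w' hw' p (hPU hp)), add_zero] at h2
        exact h2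
      have h3 : p = 0 := by
        refine hPnd p hp fun p' hp' => ?_
        have h2 := hz2 p' (Submodule.mem_sup_right hp')
        rw [Φ.add_left, hd.orth w hw p' (hPU hp'), zero_add] at h2
        exact h2
      rw [h1, h3, add_zero]
    exact ⟨W ⊔ P, perp hΦ.s (W ⊔ P), dec_perp hΦ.s hnd, by omega⟩

theorem exists_finrank_eq (hΦ : IsSp Φ) [Module.Finite F V] : ∃ n, finrank F V = 2 * n := by
  obtain ⟨W, U, hd, hW⟩ := exists_dec hΦ (finrank F V / 2) (by omega)
  have hU : finrank F W + finrank F U = finrank F V := Submodule.finrank_add_eq_of_isCompl hd.compl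
  refine ⟨finrank F V / 2, ?_⟩
  by_contra hne
  have hU1 : finrank F U = 1 := by omega
  obtain ⟨x, hx0, hx⟩ := finrank_eq_one_iff'.mp hU1
  apply hx0
  apply Subtype.ext
  refine ndOn_right hΦ.nd hd x.1 x.2 fun y hy => ?_
  obtain ⟨c, hc⟩ := hx ⟨y, hy⟩
  have h1 : c • (x : V) = y := congrArg Subtype.val hc
  rw [← h1, Φ.smul_right, hΦ.alt, mul_zero]

theorem exists_finrank_ndOn (hΦ : IsSp Φ) [Module.Finite F V] {Y : Submodule F V} (hY : Φ.NdOn Y) :
    ∃ n, finrank F Y = 2 * n := exists_finrank_eq (isSp_on hΦ hY)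

theorem two_finrank_le_of_ti (hΦ : IsSp Φ) [Module.Finite F V] {A W : Submodule F V} (hA : Φ.TI A) (hAW : A ≤ W)
    (hW : Φ.NdOn W) : 2 * finrank F A ≤ finrank F W := by
  have h1 := isSp_on hΦ hW
  set A' : Submodule F W := A.comap W.subtype with hA'
  have h2 : finrank F A' = finrank F A := by
    exact LinearEquiv.finrank_eq (Submodule.comapSubtypeEquivOfLe hAW)
  have h3 : A' ≤ (bil h1.s).orthogonal A' := by
    intro a ha
    rw [LinearMap.BilinForm.mem_orthogonal_iff]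
    intro b hb
    exact hA.1 _ hb _ ha
  have h4 := Submodule.finrank_mono h3
  rw [LinearMap.BilinForm.finrank_orthogonal (bil_nd h1.s h1.nd), h2] at h4
  have h5 := Submodule.finrank_mono hAW
  omega

theorem ti_map {A : Submodule F V} (hA : Φ.TI A) {g : V ≃ₗ[F] V} (hg : g ∈ Φ.Iso) :
    Φ.TI (A.map (g : V →ₗ[F] V)) := by
  refine ⟨?_, ?_⟩
  · rintro _ ⟨x, hx, rfl⟩ _ ⟨y, hy, rfl⟩
    show Φ.B (g x) (g y) = 0
    rw [hg.1]
    exact hA.1 x hx y hy
  · rintro _ ⟨x, hx, rfl⟩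
    show Φ.q (g x) = 0
    rw [hg.2]
    exact hA.2 x hx

variable [Finite V] [Module.Finite F V]

/-- the main counting inequality -/
theorem sum_le (hΦ : IsSp Φ) {n K k : ℕ} (hn : finrank F V = 2 * n) (T : Finset ℕ) (p : ℕ → ℝ)
    (hT : ∀ s ∈ T, 2 * s ≤ K ∧ s < k ∧ s ≤ n) (Y₀ : Submodule F V) (hY : finrank F Y₀ ≤ K)
    (hk : ∀ W, Φ.NdOn W → finrank F W < 2 * k → ∀ g ∈ Φ.Iso, ¬ Y₀.map ((g : V ≃ₗ[F] V) : V →ₗ[F] V) ≤ W)
    (hp : ∀ s ∈ T, ∀ U : Submodule F V, Φ.NdOn U → finrank F U = 2 * (n - s) →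
      p s * Nat.card (Φ.on U).Iso ≤ Nat.card ↥{y : U ≃ₗ[F] U | y ∈ (Φ.on U).Iso ∧ LB K y}) :
    (∑ s ∈ T, p s) * Nat.card Φ.Iso ≤
      Nat.card {x : V ≃ₗ[F] V // x ∈ Φ.Iso ∧ ∀ g ∈ Φ.Iso, ¬ Inv x (Y₀.map ((g : V ≃ₗ[F] V) : V →ₗ[F] V))} := by
  classical
  have hex : ∀ s : T, ∃ W U : Submodule F V, Φ.Dec W U ∧ finrank F W = 2 * s.1 := by
    rintro ⟨s, hs⟩
    exact exists_dec hΦ s (by rw [hn]; have := (hT s hs).2.2; omega)
  choose W U hd hW using hex
  let X : (s : T) → Set (U s ≃ₗ[F] U s) := fun s => {y | y ∈ (Φ.on (U s)).Iso ∧ LB K y}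
  let C : T → Set (V ≃ₗ[F] V) := fun s =>
    cset Φ.Iso (hd s).compl ((Φ.on (W s)).Iso : Set (W s ≃ₗ[F] W s)) (X s)
  -- the elements of `C s` have a largest small invariant subspace
  have hbig : ∀ s : T, ∀ z ∈ C s, z ∈ Φ.Iso ∧ ∃ W' : Submodule F V, finrank F W' = 2 * s.1 ∧ Inv z W' ∧ Φ.NdOn W' ∧
      ∀ Y : Submodule F V, Inv z Y → finrank F Y ≤ K → Y ≤ W' := by
    rintro s z ⟨g, hg, x, hx, y, ⟨hy1, hy2⟩, rfl⟩
    refine ⟨Φ.Iso.mul_mem (Φ.Iso.mul_mem hg (glue_mem_iso Φ (hd s) hx hy1)) (Φ.Iso.inv_mem hg), ?_⟩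
    refine ⟨(W s).map (g : V →ₗ[F] V), ?_, inv_conj' (inv_glue_left _ _ _), ?_, ?_⟩
    · rw [finrank_map_equiv, hW]
    · rintro _ ⟨w, hw, rfl⟩ h2
      have h3 : w = 0 := by
        refine ndOn_left hΦ.nd (hd s) w hw fun w' hw' => ?_
        have h4 := h2 (g w') (Submodule.mem_map_of_mem hw')
        have h5 : Φ.B (g w) (g w') = 0 := h4
        rwa [hg.1] at h5
      rw [h3, map_zero]
    · intro Y hYi hYK
      have h1 := inv_conj hYi
      have h2 := le_left (hd s).compl hy2 h1 (by rw [finrank_map_equiv]; exact hYK)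
      intro v hv
      refine ⟨g⁻¹ v, h2 (Submodule.mem_map_of_mem hv), ?_⟩
      exact g.apply_symm_apply v
  -- sizes
  have hsize : ∀ s : T, p s.1 * Nat.card Φ.Iso ≤ Nat.card (C s) := by
    intro s
    have hs := hT s.1 s.2
    have h1 := card_cset Φ hΦ.nd (hd s) (K := K) (by rw [hW]; exact hs.1) (X := X s) (fun y hy => hy)
    have hUr : finrank F (U s) = 2 * (n - s.1) := by
      have h2 : finrank F (W s) + finrank F (U s) = finrank F V := Submodule.finrank_add_eq_of_isCompl (hd s).compl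
      rw [hW, hn] at h2
      omega
    have h3 := hp s.1 s.2 (U s) (ndOn_right hΦ.nd (hd s)) hUr
    have h4 : (0 : ℝ) < Nat.card (Φ.on (U s)).Iso := by
      exact_mod_cast (Nat.card_pos : 0 < Nat.card (Φ.on (U s)).Iso)
    have h5 : (Nat.card Φ.Iso : ℝ) * Nat.card (X s) ≤ Nat.card (C s) * Nat.card (Φ.on (U s)).Iso := by
      exact_mod_cast h1
    have h6 : (0 : ℝ) ≤ Nat.card Φ.Iso := Nat.cast_nonneg _
    have h7 : (p s.1 * Nat.card Φ.Iso) * Nat.card (Φ.on (U s)).Iso ≤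
        Nat.card (C s) * Nat.card (Φ.on (U s)).Iso := by
      calc (p s.1 * Nat.card Φ.Iso) * Nat.card (Φ.on (U s)).Iso
          = Nat.card Φ.Iso * (p s.1 * Nat.card (Φ.on (U s)).Iso) := by ring
        _ ≤ Nat.card Φ.Iso * Nat.card (X s) := mul_le_mul_of_nonneg_left h3 h6
        _ ≤ _ := h5
    exact le_of_mul_le_mul_right h7 h4
  -- the union
  have hle : ∑ s : T, Nat.card (C s) ≤
      Nat.card {x : V ≃ₗ[F] V // x ∈ Φ.Iso ∧ ∀ g ∈ Φ.Iso, ¬ Inv x (Y₀.map ((g : V ≃ₗ[F] V) : V →ₗ[F] V))} := by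
    rw [← Nat.card_sigma]
    refine Nat.card_le_card_of_injective (fun q : (Σ s : T, C s) => ⟨q.2.1, ?_, ?_⟩) ?_
    · exact (hbig q.1 q.2.1 q.2.2).1
    · intro g hg hinv
      obtain ⟨-, W', hW', -, hWnd, hmax⟩ := hbig q.1 q.2.1 q.2.2
      have h1 := hmax _ hinv (by rw [finrank_map_equiv]; exact hY)
      exact hk W' hWnd (by rw [hW']; have := (hT q.1.1 q.1.2).2.1; omega) g hg h1
    · rintro ⟨s, z, hz⟩ ⟨s', z', hz'⟩ e
      have e1 : z = z' := congrArg Subtype.val e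
      subst e1
      obtain ⟨-, W1, hW1, hi1, -, hmax1⟩ := hbig s z hz
      obtain ⟨-, W2, hW2, hi2, -, hmax2⟩ := hbig s' z hz'
      have h1 := hmax2 W1 hi1 (by rw [hW1]; exact (hT s.1 s.2).1)
      have h2 := hmax1 W2 hi2 (by rw [hW2]; exact (hT s'.1 s'.2).1)
      have h3 : W1 = W2 := le_antisymm h1 h2
      rw [h3, hW2] at hW1
      have h4 : s = s' := Subtype.ext (by omega)
      subst h4
      rfl
  have hle' : ((∑ s : T, Nat.card (C s) : ℕ) : ℝ) ≤
      Nat.card {x : V ≃ₗ[F] V // x ∈ Φ.Iso ∧ ∀ g ∈ Φ.Iso, ¬ Inv x (Y₀.map ((g : V ≃ₗ[F] V) : V →ₗ[F] V))} := by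
    exact_mod_cast hle
  refine le_trans ?_ hle'
  rw [Finset.sum_mul, ← Finset.sum_coe_sort T, Nat.cast_sum]
  exact Finset.sum_le_sum fun s _ => hsize s

end Cfsg.Agent.H181.Bs
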